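import Cfsg.Agent.H670.S8.SharpEng2
import Cfsg.Agent.H786.S8.MEleven
import Cfsg.Agent.H940.EngData

/-!
# S4908, `M₁₁`: the row FROB in the form `ChiefS` (helper318)

The engine `SharpEng2` of helper670 with the centralizer orders `11`, `5`, `18` of the elements of order `11`, `5`, `3`.
-/

set_option autoImplicit false

namespace Cfsg.Agent.H318.S8.MEleven

open Cfsg Subgroup Cfsg.Agent.H940.Eng Cfsg.Agent.H940.Eng.D Cfsg.Agent.H704.S8 Cfsg.Agent.H670.S8 Cfsg.Agent.OrdDiv
open Cfsg.Agent.SporadicA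

universe u v

/-- the centralizer data -/
def cl : List (ℕ × ℕ × List ℕ) := [(11, 11, [11]), (5, 5, [5]), (3, 3, [18])]

/-- the degrees -/
def adm : List ℕ := [1, 10, 11, 16, 44, 45, 55]

theorem chk : allD (stest2 l_m11 n_m11 1 1 cl adm adm 0 [] 60 [] o_m11) l_m11 1 = true := by decide +kernel

theorem hcl {X : Type u} [Group X] [Finite X] (h : Cfsg.IsM11 X) : ∀ x ∈ cl, CLoc2 X x := by
  intro x hx
  simp only [cl, List.mem_cons, List.not_mem_nil, or_false] at hx
  rcases hx with rfl | rfl | rfl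
  · exact cloc2_of ⟨by norm_num, fun g hg => ⟨11, by simp, (M11Sylow.card_centralizer_eleven h hg).dvd⟩⟩
  · exact cloc2_of ⟨by norm_num, fun g hg => ⟨5, by simp, (M11Facts.card_centralizer_five h hg).dvd⟩⟩
  · exact cloc2_of ⟨by norm_num, fun g hg => ⟨18, by simp, (M11Facts2.card_centralizer_three h hg).dvd⟩⟩

/-- universe `0` -/
theorem chiefS₀ {X : Type} [Group X] [Finite X] (B : Base) (h : Cfsg.IsM11 X) {D : Set ℕ}
    (hD : ∀ d ∈ D, d ∈ adm) : ChiefS.{u} 1 D X := by
  refine chiefS_of_check2 (l := l_m11) (n := n_m11) (ords := o_m11) (loc := [])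
    ⟨inferInstance, h.1, h.2, v_m11, nd_m11, ords_m11 B, fun ld hld => absurd hld List.not_mem_nil⟩ one_pos
    (cl := cl) (hcl h) (adm := adm) hD (by decide) (admX := adm) (fun ξ _ => ?_) (by decide) (rb := 0) (bd := 60) chk
  exact (H786.S8.MEleven.key h).2 ξ _ (H40.HT.cast_deg ξ)

/-- **the row FROB of `M₁₁`** -/
theorem chiefS {X : Type v} [Group X] [Finite X] (B : Base) (h : Cfsg.IsM11 X) {D : Set ℕ} (hD : Deg 1 X D) :
    ChiefS.{u} 1 D X := by
  let e := Finite.equivFin X
  let φ : X →* Equiv.Perm (Fin (Nat.card X)) := e.permCongrHom.toMonoidHom.comp (MulAction.toPermHom X X)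
  have hφ : Function.Injective φ := e.permCongrHom.injective.comp MulAction.toPerm_injective
  have f : ↥φ.range ≃* X := (MonoidHom.ofInjective hφ).symm
  have hY : Cfsg.IsM11 ↥φ.range := ⟨f.isSimpleGroup_congr.2 h.1, by rw [Nat.card_congr f.toEquiv]; exact h.2⟩
  exact (chiefS₀ B hY fun d hd => (H786.S8.MEleven.deg_iff h hD).1 hd).congr f

end Cfsg.Agent.H318.S8.MEleven
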